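import Cfsg.Agent.Lib.PSLFacts.FourGroups
import Mathlib.GroupTheory.SpecificGroups.Dihedral

/-!
# Centralisers of involutions of `PSL(2,q)` for `q ≡ 3 (mod 4)`, and recognition of dihedral groups
-/

set_option autoImplicit false

namespace Cfsg.Agent.Lib.PrimeHalfLine.Cent

open Cfsg.Agent.Lib Cfsg.Agent.Lib.PSLTwo.Sylow Cfsg.Agent.Lib.PSLTwo.ClassSize
open Cfsg.Agent.Lib.SL2Tori Cfsg.Agent.Lib.SL2Tori.Products Cfsg.Agent.Lib.PSLFacts.Invol

variable {F : Type*} [Field F] [Fintype F]

local notation "PSL2" => Matrix.ProjectiveSpecialLinearGroup (Fin 2) F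

/-- The centraliser of an involution of `PSL(2,q)`, `q ≡ 3 (mod 4)`, has order `q + 1`. -/
theorem card_centralizer_involution (h3 : Fintype.card F % 4 = 3) {u : PSL2} (hu : orderOf u = 2) :
    Nat.card (Subgroup.centralizer {u}) = Fintype.card F + 1 := by
  have hodd : Odd (Fintype.card F) := Nat.odd_iff.mpr (by omega)
  have h2 : (2 : F) ≠ 0 := PSLFacts.two_ne_zero_iff.mpr hodd
  obtain ⟨g, rfl, hg⟩ := trace_zero_of_involution hu
  have hgcd : Nat.gcd 2 (Fintype.card F - 1) = 2 := Nat.gcd_eq_left (by omega)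
  have hC : Nat.card (PSLTwo.ClassSize.pre g) = 2 * Nat.card (Subgroup.centralizer {proj g}) := by
    have h' := DicksonId.card_pre (Subgroup.centralizer {proj g})
    rw [hgcd] at h'
    refine (Nat.card_congr (Equiv.setCongr ?_)).trans h'
    ext h
    show h ∈ PSLTwo.ClassSize.pre g ↔ proj h ∈ Subgroup.centralizer {proj g}
    rw [mem_pre, Subgroup.mem_centralizer_singleton_iff, ← map_mul, ← map_mul, @eq_comm _ (proj (h * g)), proj_eq_iff]
  rw [(card_pre h2 hg).2 h3] at hC
  omega

end Cfsg.Agent.Lib.PrimeHalfLine.Cent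

namespace Cfsg.Agent.Lib.PrimeHalfLine.Dihedral

variable {D : Type*} [Group D] [Finite D]

/-- A finite group generated by an element and an involution inverting it, of twice the order. -/
theorem nonempty_mulEquiv (z t : D) {e : ℕ} (he : 0 < e) (hz : orderOf z = e) (ht : t * t = 1)
    (hinv : t * z * t = z⁻¹) (hD : Nat.card D = 2 * e) (htz : t ∉ Subgroup.zpowers z) :
    Nonempty (D ≃* DihedralGroup e) := by
  have : NeZero e := ⟨he.ne'⟩
  let c : ZMod e → D := fun i => z ^ i.val
  have hadd : ∀ i j, c (i + j) = c i * c j := fun i j => by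
    show z ^ (i + j).val = z ^ i.val * z ^ j.val
    rw [← pow_add, pow_eq_pow_iff_modEq, hz, ← ZMod.natCast_eq_natCast_iff]
    simp
  have hzero : c 0 = 1 := by simp [c]
  have hneg : ∀ i, c (-i) = (c i)⁻¹ := fun i =>
    eq_inv_of_mul_eq_one_right (by rw [← hadd, add_neg_cancel, hzero])
  have hflip : ∀ i, c i * t = t * c (-i) := fun i => by
    have h1 : t * z ^ i.val * t = (z⁻¹) ^ i.val := by
      rw [← hinv]
      induction i.val with
      | zero => simp [ht]
      | succ n ih =>
        calc t * z ^ (n + 1) * t = t * z ^ n * (t * t) * z * t := by rw [ht, pow_succ]; group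
          _ = (t * z ^ n * t) * (t * z * t) := by group
          _ = (t * z * t) ^ (n + 1) := by rw [ih, ← pow_succ]
    rw [hneg, show (c i)⁻¹ = t * c i * t from (h1.trans (inv_pow z i.val)).symm,
      ← mul_assoc, ← mul_assoc, ht, one_mul]
  let f : DihedralGroup e → D := fun x => match x with
    | DihedralGroup.r i => c i
    | DihedralGroup.sr i => t * c i
  let φ : DihedralGroup e →* D := MonoidHom.mk' f (by
    rintro (i | i) (j | j)
    · exact hadd i j
    · show t * c (j - i) = c i * (t * c j)
      rw [← mul_assoc, hflip, mul_assoc, ← hadd, neg_add_eq_sub]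
    · show t * c (i + j) = t * c i * c j
      rw [hadd, mul_assoc]
    · show c (j - i) = t * c i * (t * c j)
      rw [mul_assoc t, ← mul_assoc (c i), hflip, ← mul_assoc, ← mul_assoc, ht, one_mul, ← hadd,
        neg_add_eq_sub])
  have hinj : Function.Injective φ := by
    rw [injective_iff_map_eq_one]
    rintro (i | i) h
    · have h' : z ^ i.val = 1 := h
      rw [← orderOf_dvd_iff_pow_eq_one, hz] at h'
      have h0 := Nat.eq_zero_of_dvd_of_lt h' (ZMod.val_lt i)
      rw [(ZMod.val_eq_zero i).mp h0, DihedralGroup.one_def]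
    · have h' : t * z ^ i.val = 1 := h
      refine absurd ?_ htz
      rw [eq_inv_of_mul_eq_one_left h']
      exact inv_mem (pow_mem (Subgroup.mem_zpowers z) _)
  have : Fintype D := Fintype.ofFinite D
  have hbij : Function.Bijective φ := (Fintype.bijective_iff_injective_and_card φ).mpr
    ⟨hinj, by rw [DihedralGroup.card, ← Nat.card_eq_fintype_card, hD]⟩
  exact ⟨(MulEquiv.ofBijective φ hbij).symm⟩

end Cfsg.Agent.Lib.PrimeHalfLine.Dihedral
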