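import Cfsg.Agent.Lib.PrimeHalfLine.Pair
import Cfsg.Agent.S0676
import Cfsg.Agent.S3612

/-!
# An even overgroup of `PSL(2,p)` on the projective line is four times transitive
-/

set_option autoImplicit false
set_option linter.unusedSectionVars false

namespace Cfsg.Agent.Lib.PrimeHalfLine.Main

open MulAction Cfsg.Agent.Lib.Perm

universe u v

variable {X : Type u} {Ω : Type v} [Group X] [Finite X] [MulAction X Ω] [FaithfulSMul X Ω]
  [Fintype Ω] [DecidableEq Ω] {p : ℕ} [Fact p.Prime] (hΩ : Fintype.card Ω = p + 1)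
  (heven : ∀ x : X, Equiv.Perm.sign (MulAction.toPerm x : Equiv.Perm Ω) = 1)
  (L : Subgroup X) (hL : Nonempty (↥L ≃* Matrix.ProjectiveSpecialLinearGroup (Fin 2) (ZMod p)))
  (hLt : MulAction.IsMultiplyPretransitive ↥L Ω 2)

include hΩ in
/-- If the elements fixing `a`, `b` and `c` miss a point then the elements interchanging `a` and `b`
and fixing `c` pair the points they reach with those they miss, so that `p - 2` would be even. -/
theorem reach_of_reach_setwise (hp2 : p ≠ 2) {a b c d e : Ω} (hab : a ≠ b) (hca : c ≠ a) (hcb : c ≠ b)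
    (hsq : ∀ y : Ω, y ≠ a → y ≠ b → y ≠ c →
      ∃ x : X, ((x • a = a ∧ x • b = b) ∨ (x • a = b ∧ x • b = a)) ∧ x • c = c ∧ x • d = y)
     (hea : e ≠ a) (heb : e ≠ b) (hec : e ≠ c) :
    ∃ x : X, x • a = a ∧ x • b = b ∧ x • c = c ∧ x • d = e := by
  classical
  let Good : Ω → Prop := fun y => ∃ x : X, x • a = a ∧ x • b = b ∧ x • c = c ∧ x • d = y
  show Good e
  by_cases hs : ∃ s : X, s • a = b ∧ s • b = a ∧ s • c = c ∧ s • d = d
  · obtain ⟨s, hsa, hsb, hsc, hsd⟩ := hs
    obtain ⟨x, hx, hxc, hxd⟩ := hsq e hea heb hec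
    rcases hx with ⟨h1, h2⟩ | ⟨h1, h2⟩
    · exact ⟨x, h1, h2, hxc, hxd⟩
    · exact ⟨x * s, by rw [mul_smul, hsa, h2], by rw [mul_smul, hsb, h1],
        by rw [mul_smul, hsc, hxc], by rw [mul_smul, hsd, hxd]⟩
  by_contra hbad
  obtain ⟨h, hh, hhc, hhd⟩ := hsq e hea heb hec
  have hha : h • a = b ∧ h • b = a :=
    hh.resolve_left fun h' => hbad ⟨h, h'.1, h'.2, hhc, hhd⟩
  obtain ⟨hha, hhb⟩ := hha
  let R : Finset Ω := ({a, b, c} : Finset Ω)ᶜ
  have hR : ∀ y, y ∈ R ↔ y ≠ a ∧ y ≠ b ∧ y ≠ c := fun y => by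
    simp only [R, Finset.mem_compl, Finset.mem_insert, Finset.mem_singleton, not_or]
  have hkeep : ∀ {y : Ω}, y ∈ R → h • y ∈ R := by
    intro y hy
    rw [hR] at hy ⊢
    exact ⟨fun e' => hy.2.1 (smul_left_cancel h (e'.trans hhb.symm)),
      fun e' => hy.1 (smul_left_cancel h (e'.trans hha.symm)),
      fun e' => hy.2.2 (smul_left_cancel h (e'.trans hhc.symm))⟩
  have hST : ∀ y, Good y → ¬ Good (h • y) := by
    rintro y ⟨x, h1, h2, h3, h4⟩ ⟨z, k1, k2, k3, k4⟩
    refine hs ⟨z⁻¹ * h * x, ?_, ?_, ?_, ?_⟩ <;> rw [mul_smul, mul_smul, inv_smul_eq_iff]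
    · rw [h1, hha, k2]
    · rw [h2, hhb, k1]
    · rw [h3, hhc, k3]
    · rw [h4, k4]
  have hTS : ∀ y ∈ R, ¬ Good y → Good (h • y) := by
    intro y hy hyb
    rw [hR] at hy
    obtain ⟨x, hx, hxc, hxd⟩ := hsq y hy.1 hy.2.1 hy.2.2
    obtain ⟨h1, h2⟩ : x • a = b ∧ x • b = a :=
      hx.resolve_left fun h' => hyb ⟨x, h'.1, h'.2, hxc, hxd⟩
    exact ⟨h * x, by rw [mul_smul, h1, hhb], by rw [mul_smul, h2, hha],
      by rw [mul_smul, hxc, hhc], by rw [mul_smul, hxd]⟩
  have hle1 : (R.filter Good).card ≤ (R.filter fun y => ¬ Good y).card :=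
    Finset.card_le_card_of_injOn (fun y => h • y) (fun y hy => by
      simp only [Finset.coe_filter, Set.mem_ofPred_eq] at hy ⊢
      exact ⟨hkeep hy.1, hST y hy.2⟩) fun y _ z _ hyz => smul_left_cancel h hyz
  have hle2 : (R.filter fun y => ¬ Good y).card ≤ (R.filter Good).card :=
    Finset.card_le_card_of_injOn (fun y => h • y) (fun y hy => by
      simp only [Finset.coe_filter, Set.mem_ofPred_eq] at hy ⊢
      exact ⟨hkeep hy.1, hTS y hy.1 hy.2⟩) fun y _ z _ hyz => smul_left_cancel h hyz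
  have hsum := Finset.card_filter_add_card_filter_not (s := R) Good
  have hRc : R.card = p - 2 := by
    have h3 : ({a, b, c} : Finset Ω).card = 3 :=
      Finset.card_eq_three.mpr ⟨a, b, c, hab, hca.symm, hcb.symm, rfl⟩
    rw [Finset.card_compl, h3, hΩ]
    omega
  obtain ⟨t, ht⟩ : Odd p := (Fact.out : p.Prime).odd_of_ne_two hp2
  have := (Fact.out : p.Prime).two_le
  omega

set_option maxHeartbeats 1000000 in
include hΩ heven hL hLt in
/-- The two-point stabiliser is doubly transitive on the other points when `p ≡ 3 (mod 4)`. -/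
theorem exists_fixing_two (hp3 : p % 4 = 3) (hp7 : 7 < p) (hLX : L ≠ ⊤) {a b : Ω} (hab : a ≠ b)
    {c d c' d' : Ω} (hcd : c ≠ d) (hcd' : c' ≠ d') (hca : c ≠ a) (hcb : c ≠ b) (hda : d ≠ a)
    (hdb : d ≠ b) (hca' : c' ≠ a) (hcb' : c' ≠ b) (hda' : d' ≠ a) (hdb' : d' ≠ b) :
    ∃ x : X, x • a = a ∧ x • b = b ∧ x • c = c' ∧ x • d = d' := by
  classical
  have hp : p.Prime := Fact.out
  set G := Setup.grp (X := X) a with hG
  have hα := Setup.card_others (X := X) hΩ a
  have hGt : IsPretransitive G (SubMulAction.ofStabilizer X a) := Setup.transitive_grp L hLt a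
  obtain ⟨hins, P, hN, -⟩ := Setup.main hΩ heven L hL hLt (by omega) hLX a
  let b₀ : SubMulAction.ofStabilizer X a := ⟨b, hab.symm⟩
  have hGb : IsPreprimitive (stabilizer G b₀) (SubMulAction.ofStabilizer G b₀) :=
    S3612.result p hp (by rw [Nat.card_eq_fintype_card, hα]) hGt hins P hN hp7 b₀
  choose s hs using Setup.toG_surjective (X := X) a
  have hsb : ∀ g : stabilizer G b₀, ((s (g : G) : stabilizer X a) : X) • b = b := by
    intro g
    have h1 := congrArg (fun w : SubMulAction.ofStabilizer X a => (w : Ω)) (show (g : G) • b₀ = b₀ from g.2)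
    rw [← hs (g : G), Setup.coe_toG_smul] at h1
    exact h1
  let σ : stabilizer G b₀ → Pair.pairStab (X := X) a b := fun g =>
    ⟨(s (g : G) : stabilizer X a), Or.inl ⟨(s (g : G)).2, hsb g⟩⟩
  have hsmul : ∀ (g : G) (w : SubMulAction.ofStabilizer X a),
      ((g • w : SubMulAction.ofStabilizer X a) : Ω) = ((s g : stabilizer X a) : X) • (w : Ω) := by
    intro g w
    conv_lhs => rw [← hs g]
    exact Setup.coe_toG_smul a (s g) w
  let f₀ : SubMulAction.ofStabilizer G b₀ → Pair.rest (X := X) a b := fun z =>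
    ⟨((z : SubMulAction.ofStabilizer X a) : Ω),
      (z : SubMulAction.ofStabilizer X a).2, fun e => z.2 (Subtype.ext e)⟩
  have hf₀ : ∀ g z, f₀ (g • z) = σ g • f₀ z := fun g z =>
    Subtype.ext (hsmul (g : G) (z : SubMulAction.ofStabilizer X a))
  let f : SubMulAction.ofStabilizer G b₀ →ₑ[σ] Pair.rest (X := X) a b := ⟨f₀, hf₀⟩
  have hf : Function.Surjective f := by
    intro z
    let z₁ : SubMulAction.ofStabilizer X a := ⟨(z : Ω), z.2.1⟩
    have hz₁ : z₁ ∈ SubMulAction.ofStabilizer G b₀ := fun e => z.2.2 (congrArg Subtype.val e :)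
    exact ⟨⟨z₁, hz₁⟩, Subtype.ext rfl⟩
  have hprim := IsPreprimitive.of_surjective (M := stabilizer G b₀) hf
  have h2 := Pair.two_transitive hΩ heven L hL hLt hp3 (by omega) hLX hab hprim
  obtain ⟨g, hg⟩ := exists_smul_eq (stabilizer G b₀)
    (⟨⟨c, hca⟩, fun e => hcb (congrArg Subtype.val e)⟩ : SubMulAction.ofStabilizer G b₀)
    ⟨⟨c', hca'⟩, fun e => hcb' (congrArg Subtype.val e)⟩
  set x₁ : X := ((s (g : G) : stabilizer X a) : X) with hx₁
  have hxa : x₁ • a = a := (s (g : G)).2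
  have hxb : x₁ • b = b := hsb g
  have hxc : x₁ • c = c' := by
    have := congrArg (fun w : SubMulAction.ofStabilizer G b₀ =>
      ((w : SubMulAction.ofStabilizer X a) : Ω)) hg
    change (((g : G) • (⟨c, hca⟩ : SubMulAction.ofStabilizer X a) : SubMulAction.ofStabilizer X a) : Ω) = c'
      at this
    rwa [hsmul] at this
  have hd1a : x₁ • d ≠ a := fun e => hda (smul_left_cancel x₁ (e.trans hxa.symm))
  have hd1b : x₁ • d ≠ b := fun e => hdb (smul_left_cancel x₁ (e.trans hxb.symm))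
  have hd1c : x₁ • d ≠ c' := fun e => hcd (smul_left_cancel x₁ (hxc.trans e.symm))
  have hsq : ∀ y : Ω, y ≠ a → y ≠ b → y ≠ c' →
      ∃ x : X, ((x • a = a ∧ x • b = b) ∨ (x • a = b ∧ x • b = a)) ∧ x • c' = c' ∧ x • (x₁ • d) = y := by
    intro y hya hyb hyc
    have h2' : ∀ {u v u' v' : Pair.rest (X := X) a b}, u ≠ v → u' ≠ v' →
        ∃ x : Pair.pairStab (X := X) a b, x • u = u' ∧ x • v = v' :=
      fun h h' => is_two_pretransitive_iff.mp h2 h h'
    obtain ⟨x, h3, h4⟩ := h2'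
      (u := ⟨c', hca', hcb'⟩) (v := ⟨x₁ • d, hd1a, hd1b⟩) (u' := ⟨c', hca', hcb'⟩) (v' := ⟨y, hya, hyb⟩)
      (fun e => hd1c (congrArg Subtype.val e).symm) (fun e => hyc (congrArg Subtype.val e).symm)
    exact ⟨x, x.2, congrArg Subtype.val h3, congrArg Subtype.val h4⟩
  obtain ⟨x₂, k1, k2, k3, k4⟩ := reach_of_reach_setwise hΩ (by omega) hab hca' hcb' hsq
    hda' hdb' hcd'.symm
  exact ⟨x₂ * x₁, by rw [mul_smul, hxa, k1], by rw [mul_smul, hxb, k2], by rw [mul_smul, hxc, k3],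
    by rw [mul_smul, k4]⟩

include hΩ heven hL hLt in
/-- Four-fold transitivity. -/
theorem four_transitive (hp7 : 7 < p) (hLX : L ≠ ⊤) : IsMultiplyPretransitive X Ω 4 := by
  classical
  have hp : p.Prime := Fact.out
  have : Nonempty Ω := Fintype.card_pos_iff.mp (by omega)
  obtain ⟨a⟩ := this
  have hXt : IsPretransitive X Ω := ⟨fun y z => by
    have : IsPretransitive L Ω := isPretransitive_of_is_two_pretransitive (h2 := hLt)
    obtain ⟨g, hg⟩ := exists_smul_eq L y z
    exact ⟨g, hg⟩⟩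
  set G := Setup.grp (X := X) a with hG
  have hα := Setup.card_others (X := X) hΩ a
  have hGt : IsPretransitive G (SubMulAction.ofStabilizer X a) := Setup.transitive_grp L hLt a
  obtain ⟨hins, P, hN, -⟩ := Setup.main hΩ heven L hL hLt (by omega) hLX a
  have h3 : IsMultiplyPretransitive G (SubMulAction.ofStabilizer X a) 3 := by
    obtain ⟨t, ht⟩ : Odd p := hp.odd_of_ne_two (by omega)
    rcases Nat.even_or_odd t with hte | hto
    · refine S0676.result hα G hins P ?_
      have hm : Nat.card (Subgroup.normalizer ((P : Subgroup G) : Set G)) = p * t :=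
        Nat.eq_of_mul_eq_mul_left two_pos (by rw [hN, show p - 1 = 2 * t by omega]; ring)
      exact hm ▸ hte.mul_left p
    · have hp3 : p % 4 = 3 := by
        obtain ⟨r, hr⟩ := hto
        omega
      have : Nonempty (SubMulAction.ofStabilizer X a) := Fintype.card_pos_iff.mp (hα ▸ hp.pos)
      obtain ⟨b₀⟩ := this
      rw [SubMulAction.ofStabilizer.isMultiplyPretransitive (n := 2) (a := b₀), is_two_pretransitive_iff]
      intro c d c' d' hcd hcd'
      have hne : ∀ z : SubMulAction.ofStabilizer G b₀,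
          ((z : SubMulAction.ofStabilizer X a) : Ω) ≠ (b₀ : Ω) := fun z e => z.2 (Subtype.ext e)
      obtain ⟨x, hxa, hxb, hxc, hxd⟩ := exists_fixing_two hΩ heven L hL hLt hp3 hp7 hLX
        (a := a) (b := (b₀ : Ω)) (Ne.symm b₀.2)
        (c := ((c : SubMulAction.ofStabilizer X a) : Ω)) (d := ((d : SubMulAction.ofStabilizer X a) : Ω))
        (c' := ((c' : SubMulAction.ofStabilizer X a) : Ω)) (d' := ((d' : SubMulAction.ofStabilizer X a) : Ω))
        (fun e => hcd (Subtype.ext (Subtype.ext e))) (fun e => hcd' (Subtype.ext (Subtype.ext e)))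
        (c : SubMulAction.ofStabilizer X a).2 (hne c) (d : SubMulAction.ofStabilizer X a).2 (hne d)
        (c' : SubMulAction.ofStabilizer X a).2 (hne c') (d' : SubMulAction.ofStabilizer X a).2 (hne d')
      exact ⟨⟨Setup.toG a ⟨x, hxa⟩, Subtype.ext hxb⟩, Subtype.ext (Subtype.ext hxc),
        Subtype.ext (Subtype.ext hxd)⟩
  refine (SubMulAction.ofStabilizer.isMultiplyPretransitive (n := 3) (a := a)).mpr ⟨fun x y => ?_⟩
  obtain ⟨g, hg⟩ := h3.exists_smul_eq x y
  obtain ⟨s, rfl⟩ := Setup.toG_surjective a g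
  refine ⟨s, ?_⟩
  ext i
  exact congrArg (fun w : SubMulAction.ofStabilizer X a => (w : Ω)) (DFunLike.congr_fun hg i)

end Cfsg.Agent.Lib.PrimeHalfLine.Main
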