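import Cfsg.Agent.Lib.PrimeHalfLine.Setup
import Cfsg.Agent.Lib.PrimeHalfLine.Cent
import Cfsg.Agent.S3572

/-!
# The setwise stabiliser of two points when `p ≡ 3 (mod 4)`

Its subgroup coming from `L` is a regular dihedral group on the other points, so it is doubly
transitive as soon as it is primitive.
-/

set_option autoImplicit false
set_option linter.unusedSectionVars false

namespace Cfsg.Agent.Lib.PrimeHalfLine.Pair

open MulAction Cfsg.Agent.Lib.Perm

universe u v

variable {X : Type u} {Ω : Type v} [Group X] [Finite X] [MulAction X Ω] [FaithfulSMul X Ω]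
  [Fintype Ω] [DecidableEq Ω]

/-- The setwise stabiliser of `{a, b}`. -/
def pairStab (a b : Ω) : Subgroup X where
  carrier := {x | (x • a = a ∧ x • b = b) ∨ (x • a = b ∧ x • b = a)}
  one_mem' := Or.inl ⟨one_smul _ _, one_smul _ _⟩
  mul_mem' := by
    rintro x y (⟨h1, h2⟩ | ⟨h1, h2⟩) (⟨h3, h4⟩ | ⟨h3, h4⟩) <;>
      simp [mul_smul, h1, h2, h3, h4]
  inv_mem' := by
    rintro x (⟨h1, h2⟩ | ⟨h1, h2⟩)
    · exact Or.inl ⟨inv_smul_eq_iff.mpr h1.symm, inv_smul_eq_iff.mpr h2.symm⟩
    · exact Or.inr ⟨inv_smul_eq_iff.mpr h2.symm, inv_smul_eq_iff.mpr h1.symm⟩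

/-- The other points. -/
def rest (a b : Ω) : SubMulAction (pairStab (X := X) a b) Ω where
  carrier := {z | z ≠ a ∧ z ≠ b}
  smul_mem' := by
    rintro ⟨x, hx⟩ z ⟨hza, hzb⟩
    show x • z ≠ a ∧ x • z ≠ b
    rcases hx with ⟨h1, h2⟩ | ⟨h1, h2⟩
    · exact ⟨fun h => hza (smul_left_cancel x (h.trans h1.symm)),
        fun h => hzb (smul_left_cancel x (h.trans h2.symm))⟩
    · exact ⟨fun h => hzb (smul_left_cancel x (h.trans h2.symm)),
        fun h => hza (smul_left_cancel x (h.trans h1.symm))⟩

variable {p : ℕ} [Fact p.Prime] (hΩ : Fintype.card Ω = p + 1)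
  (heven : ∀ x : X, Equiv.Perm.sign (MulAction.toPerm x : Equiv.Perm Ω) = 1)
  (L : Subgroup X) (hL : Nonempty (↥L ≃* Matrix.ProjectiveSpecialLinearGroup (Fin 2) (ZMod p)))
  (hLt : MulAction.IsMultiplyPretransitive ↥L Ω 2)

include hΩ in
theorem card_rest {a b : Ω} (hab : a ≠ b) : Nat.card (rest (X := X) a b) = p - 1 := by
  have h : (({a, b} : Finset Ω)ᶜ).card = p - 1 := by
    rw [Finset.card_compl, Finset.card_pair hab, hΩ]
    omega
  rw [← h, ← Fintype.card_coe, ← Nat.card_eq_fintype_card]
  refine Nat.card_congr (Equiv.subtypeEquivRight fun z => ?_)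
  rw [Finset.mem_compl, Finset.mem_insert, Finset.mem_singleton, not_or]
  exact Iff.rfl

include heven in
/-- An element fixing all other points is trivial: a transposition is odd. -/
theorem eq_one_of_fix_rest {a b : Ω} (hab : a ≠ b) {x : X} (hx : x ∈ pairStab a b)
    (h : ∀ z, z ≠ a → z ≠ b → x • z = z) : x = 1 := by
  refine eq_of_smul_eq_smul fun z : Ω => ?_
  rw [one_smul]
  rcases hx with ⟨h1, h2⟩ | ⟨h1, h2⟩
  · by_cases hza : z = a
    · rw [hza, h1]
    by_cases hzb : z = b
    · rw [hzb, h2]
    exact h z hza hzb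
  · exfalso
    have hsw : (MulAction.toPerm x : Equiv.Perm Ω) = Equiv.swap a b := by
      ext w
      show x • w = Equiv.swap a b w
      by_cases hwa : w = a
      · rw [hwa, h1, Equiv.swap_apply_left]
      by_cases hwb : w = b
      · rw [hwb, h2, Equiv.swap_apply_right]
      rw [Equiv.swap_apply_of_ne_of_ne hwa hwb, h w hwa hwb]
    have := heven x
    rw [hsw, Equiv.Perm.sign_swap hab] at this
    exact absurd this (by decide)

include hΩ hLt hL in
/-- The order of a two-point stabiliser in `L`. -/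
theorem card_two_point (hp2 : p ≠ 2) {a b : Ω} (hab : a ≠ b) :
    2 * Nat.card {g : L // g • a = a ∧ g • b = b} = p - 1 := by
  have hp : p.Prime := Fact.out
  have h2t : ∀ {c d e f : Ω}, c ≠ d → e ≠ f → ∃ g : L, g • c = e ∧ g • d = f :=
    fun h h' => is_two_pretransitive_iff.mp hLt h h'
  have : IsPretransitive (stabilizer L a) (SubMulAction.ofStabilizer L a) := ⟨fun x y => by
    obtain ⟨g, hga, hgx⟩ := h2t (c := a) (d := (x : Ω)) (e := a) (f := (y : Ω)) (Ne.symm x.2) (Ne.symm y.2)
    exact ⟨⟨g, hga⟩, Subtype.ext hgx⟩⟩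
  have hL1 : IsPretransitive L Ω := isPretransitive_of_is_two_pretransitive (h2 := hLt)
  have h1 := Basic.card_eq_card_mul_card_stabilizer (G := L) a
  rw [Nat.card_eq_fintype_card (α := Ω), hΩ] at h1
  have hb : b ∈ SubMulAction.ofStabilizer L a := hab.symm
  have h2 := Basic.card_eq_card_mul_card_stabilizer (G := stabilizer L a)
    (⟨b, hb⟩ : SubMulAction.ofStabilizer L a)
  have h4 : Nat.card (SubMulAction.ofStabilizer L a) = p := by
    classical
    rw [Nat.card_congr (Equiv.subtypeEquivRight (q := fun z : Ω => z ≠ a) fun z =>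
      SubMulAction.mem_ofStabilizer_iff L a), Nat.card_eq_fintype_card,
      Fintype.card_subtype_compl, Fintype.card_subtype_eq, hΩ]
    rfl
  have h5 : Nat.card (stabilizer (stabilizer L a) (⟨b, hb⟩ : SubMulAction.ofStabilizer L a)) =
      Nat.card {g : L // g • a = a ∧ g • b = b} :=
    Nat.card_congr
      { toFun := fun g => ⟨((g : stabilizer L a) : L), (g : stabilizer L a).2, congrArg Subtype.val g.2⟩
        invFun := fun g => ⟨⟨(g : L), g.2.1⟩, Subtype.ext g.2.2⟩
        left_inv := fun g => rfl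
        right_inv := fun g => rfl }
  have h3 := Setup.two_mul_card_L L hp2 hL
  rw [h1, h2, h4, h5] at h3
  refine Nat.eq_of_mul_eq_mul_left (show 0 < (p + 1) * p from Nat.mul_pos (Nat.succ_pos p) hp.pos) ?_
  rw [show (p + 1) * p * (2 * Nat.card {g : L // g • a = a ∧ g • b = b}) =
    2 * ((p + 1) * (p * Nat.card {g : L // g • a = a ∧ g • b = b})) by ring, h3]
  ring

include hΩ heven hL hLt in
/-- The other points are a primitive domain with a regular dihedral subgroup. -/
theorem two_transitive (hp3 : p % 4 = 3) (hp7 : 3 < p) (hLX : L ≠ ⊤) {a b : Ω} (hab : a ≠ b)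
    [Fintype (SubMulAction.ofStabilizer X a)]
    (hprim : IsPreprimitive (pairStab (X := X) a b) (rest (X := X) a b)) :
    IsMultiplyPretransitive (pairStab (X := X) a b) (rest (X := X) a b) 2 := by
  classical
  have hp : p.Prime := Fact.out
  set H := pairStab (X := X) a b with hH
  obtain ⟨k, hk⟩ : ∃ k, p = 2 * k + 1 := ⟨p / 2, by omega⟩
  have hkodd : k % 2 = 1 := by omega
  have hfaith : FaithfulSMul H (rest (X := X) a b) := ⟨fun {x y} h => by
    refine Subtype.ext (inv_mul_eq_one.mp (eq_one_of_fix_rest heven hab (mul_mem (inv_mem x.2) y.2) ?_))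
    intro z hza hzb
    have h' : (x : X) • z = (y : X) • z := congrArg Subtype.val (h ⟨z, hza, hzb⟩)
    rw [mul_smul, ← h', inv_smul_smul]⟩
  -- the two-point stabiliser of `L` is semiregular
  obtain ⟨-, P, -, hLP⟩ := Setup.main hΩ heven L hL hLt hp7 hLX a
  have hGt := Setup.transitive_grp L hLt a
  have hfree : ∀ g : L, g • a = a → g • b = b → ∀ z, z ≠ a → z ≠ b → g • z = z → g = 1 := by
    intro g hga hgb z hza hzb hgz
    have hga' : (g : X) • a = a := hga
    have h1 := Setup.eq_one_of_fix_two (Setup.card_others (X := X) hΩ a) _ P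
      (hLP ⟨g, hga'⟩ g.2) (b := ⟨b, hab.symm⟩) (c := ⟨z, hza⟩)
      (fun e => hzb (congrArg Subtype.val e).symm) (Subtype.ext hgb) (Subtype.ext hgz)
    have h2 : (⟨(g : X), hga'⟩ : stabilizer X a) = 1 := Setup.toG_injective a
      (h1.trans ((MonoidHom.mk' (Setup.toG (X := X) a) (Setup.toG_mul a)).map_one).symm)
    exact Subtype.ext (congrArg (fun w : stabilizer X a => (w : X)) h2 :)
  -- swapping elements
  have h2t : ∀ {c d e f : Ω}, c ≠ d → e ≠ f → ∃ g : L, g • c = e ∧ g • d = f :=
    fun h h' => is_two_pretransitive_iff.mp hLt h h'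
  set E : Subgroup L := stabilizer L a ⊓ stabilizer L b with hE
  have hEmem : ∀ g : L, g ∈ E ↔ g • a = a ∧ g • b = b := fun g => by
    rw [hE, Subgroup.mem_inf, mem_stabilizer_iff, mem_stabilizer_iff]
  have hEc : Nat.card E = k := by
    have h := card_two_point hΩ L hL hLt (by omega : p ≠ 2) hab
    rw [← Nat.card_congr (Equiv.subtypeEquivRight hEmem)] at h
    have : Nat.card {g : L // g ∈ E} = Nat.card E := rfl
    omega
  have hcent : ∀ t : L, orderOf t = 2 → Nat.card (Subgroup.centralizer {t}) = p + 1 := by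
    intro t ht
    obtain ⟨φ⟩ := hL
    have h := Cent.card_centralizer_involution (F := ZMod p) (by rw [ZMod.card]; exact hp3)
      (u := φ t) (by rw [φ.orderOf_eq, ht])
    rw [ZMod.card] at h
    rw [← h]
    refine Nat.card_congr (φ.toEquiv.subtypeEquiv fun g => ?_)
    rw [Subgroup.mem_centralizer_singleton_iff, Subgroup.mem_centralizer_singleton_iff]
    show g * t = t * g ↔ φ g * φ t = φ t * φ g
    rw [← map_mul, ← map_mul, φ.injective.eq_iff]
  -- every swapping element of `L` is an involution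
  have hinvol : ∀ t : L, t • a = b → t • b = a → t * t = 1 := by
    intro t hta htb
    have hyE : t * t ∈ E := (hEmem _).mpr ⟨by rw [mul_smul, hta, htb], by rw [mul_smul, htb, hta]⟩
    have hyk : orderOf (t * t) ∣ k := by
      have := orderOf_dvd_natCard (⟨t * t, hyE⟩ : E)
      rwa [Subgroup.orderOf_mk, hEc] at this
    have hswap : ∀ n : ℕ, n % 2 = 1 → t ^ n • a = b := by
      intro n hn
      rw [← Nat.div_add_mod n 2, hn, pow_succ, mul_smul, hta, pow_mul, sq]
      exact ((hEmem _).mp (pow_mem hyE _)).2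
    set j := orderOf (t * t) with hj
    have hjodd : j % 2 = 1 := Nat.odd_iff.mp ((Nat.odd_iff.mpr hkodd).of_dvd_nat hyk)
    have ht' : orderOf (t ^ j) = 2 := by
      refine orderOf_eq_prime ?_ fun e => ?_
      · rw [← pow_mul, mul_comm, pow_mul, sq, hj, pow_orderOf_eq_one]
      · have := hswap j hjodd
        rw [e, one_smul] at this
        exact hab this
    have hyC : t * t ∈ Subgroup.centralizer ({t ^ j} : Set L) := by
      rw [Subgroup.mem_centralizer_singleton_iff]
      exact ((Commute.refl t).mul_left (Commute.refl t)).pow_right j |>.eq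
    have hdvd : j ∣ p + 1 := by
      have := orderOf_dvd_natCard (⟨t * t, hyC⟩ : Subgroup.centralizer ({t ^ j} : Set L))
      rwa [Subgroup.orderOf_mk, hcent _ ht', ← hj] at this
    have h1 : j ∣ 2 := by
      have h := Nat.dvd_sub hdvd (dvd_mul_of_dvd_right hyk 2 : j ∣ 2 * k)
      rwa [show p + 1 - 2 * k = 2 by omega] at h
    have h2 : j = 1 := by
      rcases (Nat.dvd_prime Nat.prime_two).mp h1 with h | h <;> omega
    exact orderOf_eq_one_iff.mp h2
  obtain ⟨t, hta, htb⟩ := h2t hab hab.symm
  -- the dihedral group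
  set D : Subgroup H := L.subgroupOf H with hD
  have hmemD : ∀ d : D, ((d : H) : X) ∈ L := fun d => d.2
  let toL : D → L := fun d => ⟨((d : H) : X), hmemD d⟩
  have htoLinj : Function.Injective toL := fun d d' h =>
    Subtype.ext (Subtype.ext (congrArg Subtype.val h :))
  have hcases : ∀ d : D, toL d ∈ E ∨ (toL d • a = b ∧ toL d • b = a) := by
    intro d
    rcases (d : H).2 with h | h
    · exact Or.inl ((hEmem _).mpr h)
    · exact Or.inr h
  have hEcyc : IsCyclic E := by
    have hα := Setup.card_others (X := X) hΩ a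
    let φ : E →* MulAut (P : Subgroup (Setup.grp (X := X) a)) :=
      ((P : Subgroup (Setup.grp (X := X) a)).normalizerMonoidHom).comp
        { toFun := fun g => ⟨Setup.toG a ⟨((g : L) : X), ((hEmem _).mp g.2).1⟩,
            hLP ⟨((g : L) : X), ((hEmem _).mp g.2).1⟩ (g : L).2⟩
          map_one' := Subtype.ext ((MonoidHom.mk' (Setup.toG (X := X) a) (Setup.toG_mul a)).map_one)
          map_mul' := fun g g' => Subtype.ext (Setup.toG_mul a
            (⟨((g : L) : X), ((hEmem _).mp g.2).1⟩ : stabilizer X a)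
            ⟨((g' : L) : X), ((hEmem _).mp g'.2).1⟩ :) }
    have hφ : Function.Injective φ := by
      rw [injective_iff_map_eq_one]
      intro g hg
      have h1 : Setup.toG a ⟨((g : L) : X), ((hEmem _).mp g.2).1⟩ ∈
          (P : Subgroup (Setup.grp (X := X) a)) := by
        rw [← PrimeDegreeSylow.centralizer_sylow hα _ P]
        have this : φ g = 1 := hg
        simp only [φ, MonoidHom.comp_apply] at this
        rw [← MonoidHom.mem_ker, Subgroup.normalizerMonoidHom_ker, Subgroup.mem_subgroupOf] at this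
        exact this
      have hPt := PrimeDegreeSylow.sylow_transitive hα _ P
      have hPc := PrimeDegreeSylow.isCyclic_sylow hα _ P
      have h2 : (⟨_, h1⟩ : (P : Subgroup (Setup.grp (X := X) a))) ∈
          stabilizer (P : Subgroup (Setup.grp (X := X) a))
            (⟨b, hab.symm⟩ : SubMulAction.ofStabilizer X a) :=
        Subtype.ext ((hEmem _).mp g.2).2
      rw [Basic.stabilizer_eq_bot_of_comm_transitive _ inferInstance, Subgroup.mem_bot] at h2
      have h3 : (⟨((g : L) : X), ((hEmem _).mp g.2).1⟩ : stabilizer X a) = 1 :=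
        Setup.toG_injective a ((congrArg Subtype.val h2).trans
          ((MonoidHom.mk' (Setup.toG (X := X) a) (Setup.toG_mul a)).map_one).symm)
      exact Subtype.ext (Subtype.ext (congrArg (fun w : stabilizer X a => (w : X)) h3 :))
    have hA : IsCyclic (MulAut (P : Subgroup (Setup.grp (X := X) a))) := by
      have : Fact (Nat.card (P : Subgroup (Setup.grp (X := X) a))).Prime :=
        ⟨by rw [PrimeDegreeSylow.card_sylow hα _ P]; exact hp⟩
      have := PrimeDegreeSylow.isCyclic_sylow hα _ P
      exact (IsCyclic.mulAutMulEquiv (G := (P : Subgroup (Setup.grp (X := X) a)))).isCyclic.mpr inferInstance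
    exact isCyclic_of_injective φ hφ
  obtain ⟨z₀, hz₀⟩ := IsCyclic.exists_generator (α := E)
  have hz₀H : ((z₀ : L) : X) ∈ H := Or.inl ((hEmem _).mp z₀.2)
  have htH : (t : X) ∈ H := Or.inr ⟨hta, htb⟩
  let zD : D := ⟨⟨_, hz₀H⟩, (z₀ : L).2⟩
  let tD : D := ⟨⟨_, htH⟩, t.2⟩
  have hDcard : Nat.card D = 2 * k := by
    rw [← hEc, two_mul, ← Nat.card_sum]
    refine (Nat.card_eq_of_bijective (Sum.elim
      (fun g : E => (⟨⟨((g : L) : X), Or.inl ((hEmem _).mp g.2)⟩, (g : L).2⟩ : D))
      (fun g : E => tD * ⟨⟨((g : L) : X), Or.inl ((hEmem _).mp g.2)⟩, (g : L).2⟩)) ⟨?_, ?_⟩).symm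
    · rintro (g | g) (g' | g') h <;>
        have h' : (((Sum.elim _ _ _ : D) : H) : X) = (((Sum.elim _ _ _ : D) : H) : X) :=
          congrArg (fun d : D => ((d : H) : X)) h
      · exact congrArg Sum.inl (Subtype.ext (Subtype.ext h'))
      · exfalso
        have e : (g : L) = t * g' := Subtype.ext h'
        have := ((hEmem _).mp g.2).1
        rw [e, mul_smul, ((hEmem _).mp g'.2).1, hta] at this
        exact hab this.symm
      · exfalso
        have e : (t * g : L) = g' := Subtype.ext h'
        have := ((hEmem _).mp g'.2).1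
        rw [← e, mul_smul, ((hEmem _).mp g.2).1, hta] at this
        exact hab this.symm
      · exact congrArg Sum.inr (Subtype.ext (mul_left_cancel (Subtype.ext h' : t * g = t * g')))
    · intro d
      rcases hcases d with hd | ⟨hda, hdb⟩
      · exact ⟨Sum.inl ⟨_, hd⟩, rfl⟩
      · refine ⟨Sum.inr ⟨t * toL d, (hEmem _).mpr ⟨?_, ?_⟩⟩, htoLinj ?_⟩
        · rw [mul_smul, hda, htb]
        · rw [mul_smul, hdb, hta]
        · show t * (t * toL d) = toL d
          rw [← mul_assoc, hinvol t hta htb, one_mul]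
  have hzD : orderOf zD = k := by
    rw [← orderOf_injective ({ toFun := toL, map_one' := rfl, map_mul' := fun _ _ => rfl } : D →* L)
      htoLinj zD]
    show orderOf (z₀ : L) = k
    rw [Subgroup.orderOf_coe, orderOf_eq_card_of_forall_mem_zpowers hz₀, hEc]
  obtain ⟨ψ⟩ := Dihedral.nonempty_mulEquiv zD tD (by omega : 0 < k) hzD
    (htoLinj (hinvol t hta htb))
    (htoLinj (by
      show t * (z₀ : L) * t = (z₀ : L)⁻¹
      have h := hinvol (t * z₀) (by rw [mul_smul, ((hEmem _).mp z₀.2).1, hta])
        (by rw [mul_smul, ((hEmem _).mp z₀.2).2, htb])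
      exact eq_inv_of_mul_eq_one_left (by rw [mul_assoc, h])))
    hDcard (fun h => by
      obtain ⟨i, hi⟩ := Subgroup.mem_zpowers_iff.mp h
      have hi' : (z₀ : L) ^ i = t := by
        have := congrArg ({ toFun := toL, map_one' := rfl, map_mul' := fun _ _ => rfl } : D →* L) hi
        rwa [map_zpow] at this
      have := ((hEmem _).mp (zpow_mem z₀.2 i)).1
      rw [hi', hta] at this
      exact hab this.symm)
  -- semiregular of full order, so regular
  have hDfree : ∀ (d : D) (w : rest (X := X) a b), d • w = w → d = 1 := by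
    intro d w hdw
    have hw : ((d : H) : X) • (w : Ω) = w := congrArg Subtype.val hdw
    rcases hcases d with hd | ⟨hda, hdb⟩
    · exact htoLinj (hfree _ ((hEmem _).mp hd).1 ((hEmem _).mp hd).2 w w.2.1 w.2.2 hw)
    · exfalso
      have h2 : orderOf (toL d) = 2 := orderOf_eq_prime (by rw [sq]; exact hinvol _ hda hdb) fun e => by
        rw [e, one_smul] at hda; exact hab hda
      have h : orderOf (toL d) ∣ Nat.card (stabilizer L (w : Ω)) :=
        Subgroup.orderOf_dvd_natCard _ (hw : toL d • (w : Ω) = w)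
      rw [h2] at h
      have hLt1 : IsPretransitive L Ω := isPretransitive_of_is_two_pretransitive (h2 := hLt)
      have hc := Basic.card_eq_card_mul_card_stabilizer (G := L) (w : Ω)
      rw [Nat.card_eq_fintype_card (α := Ω), hΩ] at hc
      have h4 := Setup.two_mul_card_L L (by omega : p ≠ 2) hL
      rw [hc] at h4
      have h5 : Nat.card (stabilizer L (w : Ω)) = p * k := by
        refine Nat.eq_of_mul_eq_mul_left (show 0 < 2 * (p + 1) by omega) ?_
        rw [mul_assoc, h4, show p - 1 = 2 * k by omega]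
        ring
      rw [h5] at h
      rcases (Nat.Prime.dvd_mul Nat.prime_two).mp h with h' | h' <;> omega
  have hreg : IsPretransitive D (rest (X := X) a b) ∧
      ∀ w : rest (X := X) a b, stabilizer D w = ⊥ := by
    refine ⟨⟨fun w w' => ?_⟩, fun w => (Subgroup.eq_bot_iff_forall _).mpr fun d hd => hDfree d w hd⟩
    have hbij := (Nat.bijective_iff_injective_and_card (fun d : D => d • w)).mpr
      ⟨fun d d' (h : d • w = d' • w) => by
        have := hDfree (d'⁻¹ * d) w (by rw [mul_smul, h, inv_smul_smul])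
        exact (inv_mul_eq_one.mp this).symm,
       by rw [hDcard, card_rest hΩ hab]; omega⟩
    exact hbij.2 w'
  exact S3572.result hprim D k ⟨ψ⟩ hreg

end Cfsg.Agent.Lib.PrimeHalfLine.Pair
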