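import Cfsg.Agent.Lib.Perm.PrimeDegreeSylow
import Cfsg.Agent.Lib.Perm.Multiple
import Cfsg.Agent.Lib.Linear.Order
import Cfsg.Agent.Lib.SmallGroups.Sylow
import Mathlib.GroupTheory.Perm.Cycle.Type

/-!
# `PSL(2,p) < X` on `p + 1` points: the stabiliser of a point

It is insoluble of degree `p`, and the normaliser of its Sylow `p`-subgroup has order `p (p-1) / 2`.
-/

set_option autoImplicit false
set_option linter.unusedSectionVars false

namespace Cfsg.Agent.Lib.PrimeHalfLine.Setup

open MulAction Cfsg.Agent.Lib.Perm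

universe u v

section Affine

variable {α : Type v} [Fintype α] [DecidableEq α] {p : ℕ} [Fact p.Prime]
  (hα : Fintype.card α = p) (G : Subgroup (Equiv.Perm α)) [IsPretransitive G α] (P : Sylow p G)
include hα

/-- An element normalising `P` which fixes two points is trivial. -/
theorem eq_one_of_fix_two {g : G} (hg : g ∈ Subgroup.normalizer ((P : Subgroup G) : Set G))
    {b c : α} (hbc : b ≠ c) (hb : g • b = b) (hc : g • c = c) : g = 1 := by
  have := PrimeDegreeSylow.sylow_transitive hα G P
  obtain ⟨⟨x, hx⟩, hxb⟩ := exists_smul_eq (P : Subgroup G) b c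
  replace hxb : x • b = c := hxb
  have hcyc := PrimeDegreeSylow.isCyclic_sylow hα G P
  have hreg := Basic.stabilizer_eq_bot_of_comm_transitive (P : Subgroup G) inferInstance b
  have hbij := Basic.smul_bijective_of_regular (H := (P : Subgroup G)) b hreg
  have hgx : g * x * g⁻¹ = x := by
    have h : (⟨g * x * g⁻¹, (Subgroup.mem_normalizer_iff.mp hg x).mp hx⟩ : (P : Subgroup G)) • b =
        (⟨x, hx⟩ : (P : Subgroup G)) • b := by
      show (g * x * g⁻¹) • b = x • b
      rw [mul_smul, mul_smul, inv_smul_eq_iff.mpr hb.symm, hxb, hc]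
    exact congrArg Subtype.val (hbij.1 h)
  have hgen : Subgroup.zpowers (⟨x, hx⟩ : (P : Subgroup G)) = ⊤ :=
    zpowers_eq_top_of_prime_card (PrimeDegreeSylow.card_sylow hα G P) fun h => hbc (by
      rw [← hxb, show x = 1 from congrArg Subtype.val h, one_smul])
  refine Basic.eq_one_of_commute_transitive (P : Subgroup G) (fun y hy => ?_) hb
  obtain ⟨k, hk⟩ := Subgroup.mem_zpowers_iff.mp (hgen ▸ Subgroup.mem_top (⟨y, hy⟩ : (P : Subgroup G)))
  have hk' : x ^ k = y := congrArg Subtype.val hk
  have hcomm : Commute g x := by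
    show g * x = x * g
    conv_rhs => rw [← hgx]
    group
  rw [← hk']
  exact (hcomm.zpow_right k).eq.symm

/-- When the normaliser has order `p (p-1)` it contains a cycle of length `p - 1`. -/
theorem exists_long_cycle
    (hN : Nat.card (Subgroup.normalizer ((P : Subgroup G) : Set G)) = p * (p - 1)) (b : α) :
    ∃ g : G, g • b = b ∧ ∀ c d : α, c ≠ b → d ≠ b → ∃ i : ℤ, g ^ i • c = d := by
  set N := Subgroup.normalizer ((P : Subgroup G) : Set G) with hNdef
  have hPt := PrimeDegreeSylow.sylow_transitive hα G P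
  have hNt : IsPretransitive N α := ⟨fun x y => by
    obtain ⟨⟨w, hw⟩, hwx⟩ := exists_smul_eq (P : Subgroup G) x y
    exact ⟨⟨w, Subgroup.le_normalizer hw⟩, hwx⟩⟩
  have hcard := Basic.card_eq_card_mul_card_stabilizer (G := N) b
  rw [hN, Nat.card_eq_fintype_card (α := α), hα] at hcard
  have hB : Nat.card (stabilizer N b) = p - 1 :=
    (Nat.eq_of_mul_eq_mul_left (Fact.out : p.Prime).pos hcard).symm
  have hcyc := PrimeDegreeSylow.isCyclic_sylow hα G P
  have hA : IsCyclic (MulAut (P : Subgroup G)) := by
    have : Fact (Nat.card (P : Subgroup G)).Prime :=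
      ⟨by rw [PrimeDegreeSylow.card_sylow hα G P]; exact Fact.out⟩
    exact (IsCyclic.mulAutMulEquiv (G := (P : Subgroup G))).isCyclic.mpr inferInstance
  let φ : stabilizer N b →* MulAut (P : Subgroup G) :=
    (P : Subgroup G).normalizerMonoidHom.comp (stabilizer N b).subtype
  have hφ : Function.Injective φ := by
    rw [injective_iff_map_eq_one]
    intro n hn
    have h1 : (n : N) ∈ (P : Subgroup G).normalizerMonoidHom.ker := hn
    rw [Subgroup.normalizerMonoidHom_ker, PrimeDegreeSylow.centralizer_sylow hα G P,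
      Subgroup.mem_subgroupOf] at h1
    have hnb : ((n : N) : G) • b = b := n.2
    have h2 : (⟨_, h1⟩ : (P : Subgroup G)) ∈ stabilizer (P : Subgroup G) b := hnb
    rw [Basic.stabilizer_eq_bot_of_comm_transitive (P : Subgroup G) inferInstance b,
      Subgroup.mem_bot] at h2
    exact Subtype.ext (Subtype.ext (congrArg (fun z : (P : Subgroup G) => (z : G)) h2 :))
  have hBcyc : IsCyclic (stabilizer N b) := isCyclic_of_injective φ hφ
  obtain ⟨n, hn⟩ := IsCyclic.exists_generator (α := stabilizer N b)
  refine ⟨((n : N) : G), n.2, fun c d hc hd => ?_⟩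
  let f : stabilizer N b → {z : α // z ≠ b} := fun m => ⟨((m : N) : G) • c, fun h =>
    hc (smul_left_cancel _ (h.trans (m.2 : ((m : N) : G) • b = b).symm))⟩
  have hf : Function.Injective f := by
    intro m m' h
    have h' : ((m : N) : G) • c = ((m' : N) : G) • c := congrArg Subtype.val h
    have h1 := eq_one_of_fix_two hα G P (g := (((m'⁻¹ * m : stabilizer N b) : N) : G))
      ((m'⁻¹ * m : stabilizer N b) : N).2 hc.symm (m'⁻¹ * m).2 (by
        show (((m' : N) : G)⁻¹ * ((m : N) : G)) • c = c
        rw [mul_smul, h', inv_smul_smul])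
    exact (inv_mul_eq_one.mp (Subtype.ext (Subtype.ext h1))).symm
  have hbij := (Nat.bijective_iff_injective_and_card f).mpr ⟨hf, by
    rw [hB, Nat.card_eq_fintype_card, Fintype.card_subtype_compl, Fintype.card_subtype_eq, hα]⟩
  obtain ⟨m, hm⟩ := hbij.2 ⟨d, hd⟩
  obtain ⟨i, rfl⟩ := hn m
  exact ⟨i, congrArg Subtype.val hm⟩

end Affine

/-- A solvable transitive group of prime degree normalises its Sylow subgroup. -/
theorem normalizer_eq_top_of_solvable {α : Type v} [Fintype α] [DecidableEq α] {p : ℕ}
    [Fact p.Prime] (hα : Fintype.card α = p) (G : Subgroup (Equiv.Perm α)) [IsPretransitive G α]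
    (P : Sylow p G) (h : Group.IsSolvable G) :
    Subgroup.normalizer ((P : Subgroup G) : Set G) = ⊤ := by
  classical
  obtain ⟨k, hk⟩ := h.solvable
  have hne : derivedSeries G 0 ≠ ⊥ := by
    intro h0
    have hd := PrimeDegreeSylow.dvd_card hα G
    have h1 : (⊤ : Subgroup G) = ⊥ := h0
    rw [← Subgroup.card_top (G := G), h1, Subgroup.card_bot] at hd
    exact (Fact.out : p.Prime).not_dvd_one hd
  obtain ⟨m, hm, hm'⟩ : ∃ m, derivedSeries G m ≠ ⊥ ∧ derivedSeries G (m + 1) = ⊥ := by
    clear h
    induction k with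
    | zero => exact absurd hk hne
    | succ k ih =>
      by_cases hk0 : derivedSeries G k = ⊥
      · exact ih hk0
      · exact ⟨k, hk0, hk⟩
  have hnorm : (derivedSeries G m).Normal := derivedSeries_normal G m
  have hab : IsMulCommutative (derivedSeries G m) := ⟨⟨fun x y => Subtype.ext (by
    have hxy := Subgroup.commutator_mem_commutator x.2 y.2
    rw [← derivedSeries_succ, hm', Subgroup.mem_bot, commutatorElement_eq_one_iff_mul_comm] at hxy
    exact hxy)⟩⟩
  have hPA := PrimeDegreeSylow.sylow_le_normal hα G P _ hm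
  have := PrimeDegreeSylow.isPreprimitive hα G
  have hAt := Basic.isPretransitive_of_normal_ne_bot (α := α) (derivedSeries G m) hm
  have : Nonempty α := Fintype.card_pos_iff.mp (hα ▸ (Fact.out : p.Prime).pos)
  obtain ⟨b⟩ := this
  have hcard := Basic.card_eq_of_regular (H := derivedSeries G m) b
    (Basic.stabilizer_eq_bot_of_comm_transitive (derivedSeries G m) hab b)
  have heq : (P : Subgroup G) = derivedSeries G m := Subgroup.eq_of_le_of_card_ge hPA (by
    rw [hcard, PrimeDegreeSylow.card_sylow hα G P, Nat.card_eq_fintype_card, hα])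
  rw [heq, Subgroup.normalizer_eq_top]

variable {X : Type u} {Ω : Type v} [Group X] [Finite X] [MulAction X Ω] [FaithfulSMul X Ω]
  [Fintype Ω] [DecidableEq Ω]

/-- The group induced by the stabiliser of `a` on the other points. -/
def grp (a : Ω) : Subgroup (Equiv.Perm (SubMulAction.ofStabilizer X a)) :=
  (MulAction.toPermHom (stabilizer X a) (SubMulAction.ofStabilizer X a)).range

/-- The element of `grp a` given by an element fixing `a`. -/
def toG (a : Ω) (x : stabilizer X a) : grp (X := X) a := ⟨_, x, rfl⟩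

theorem coe_toG_smul (a : Ω) (x : stabilizer X a) (z : SubMulAction.ofStabilizer X a) :
    ((toG a x • z : SubMulAction.ofStabilizer X a) : Ω) = (x : X) • (z : Ω) := rfl

theorem toG_surjective (a : Ω) (g : grp (X := X) a) : ∃ x, toG a x = g := by
  obtain ⟨_, x, rfl⟩ := g
  exact ⟨x, rfl⟩

theorem toG_mul (a : Ω) (x y : stabilizer X a) : toG a (x * y) = toG a x * toG a y :=
  Subtype.ext (map_mul _ x y)

theorem toG_injective (a : Ω) : Function.Injective (toG (X := X) a) := fun _ _ h =>
  (MulAction.toPerm_injective (β := SubMulAction.ofStabilizer X a)) (congrArg Subtype.val h)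

variable {p : ℕ} [Fact p.Prime] (hΩ : Fintype.card Ω = p + 1)
  (heven : ∀ x : X, Equiv.Perm.sign (MulAction.toPerm x : Equiv.Perm Ω) = 1)
  (L : Subgroup X) (hL : Nonempty (↥L ≃* Matrix.ProjectiveSpecialLinearGroup (Fin 2) (ZMod p)))
  (hLt : MulAction.IsMultiplyPretransitive ↥L Ω 2)

theorem two_mul_card_L (hp2 : p ≠ 2) (hL : Nonempty (↥L ≃* Matrix.ProjectiveSpecialLinearGroup (Fin 2) (ZMod p))) :
    2 * Nat.card L = p * (p - 1) * (p + 1) := by
  obtain ⟨e⟩ := hL
  rw [Nat.card_congr e.toEquiv, Linear.two_mul_card_PSL_two_of_odd (by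
    rw [ZMod.card]; exact (Fact.out : p.Prime).odd_of_ne_two hp2), ZMod.card]

include hΩ in
theorem card_others (a : Ω) [Fintype (SubMulAction.ofStabilizer X a)] :
    Fintype.card (SubMulAction.ofStabilizer X a) = p := by
  rw [Fintype.card_congr (Equiv.subtypeEquivRight (q := fun z : Ω => z ≠ a) fun z =>
    SubMulAction.mem_ofStabilizer_iff X a), Fintype.card_subtype_compl, Fintype.card_subtype_eq, hΩ]
  rfl

include hLt in
theorem transitive_grp (a : Ω) : IsPretransitive (grp (X := X) a) (SubMulAction.ofStabilizer X a) := by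
  refine ⟨fun x y => ?_⟩
  have h2 : ∀ {b c d e : Ω}, b ≠ c → d ≠ e → ∃ g : L, g • b = d ∧ g • c = e :=
    fun h h' => is_two_pretransitive_iff.mp hLt h h'
  obtain ⟨g, hga, hgx⟩ := h2 (b := a) (c := (x : Ω)) (d := a) (e := (y : Ω))
    (Ne.symm x.2) (Ne.symm y.2)
  exact ⟨toG a ⟨g, hga⟩, Subtype.ext hgx⟩

include hΩ heven hL hLt in
/-- The point stabiliser: insoluble, with a Sylow normaliser of order `p (p-1) / 2` containing the
image of `L`. -/
theorem main (hp2 : 3 < p) (hLX : L ≠ ⊤) (a : Ω) [Fintype (SubMulAction.ofStabilizer X a)] :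
    ¬ Group.IsSolvable (grp (X := X) a) ∧ ∃ P : Sylow p (grp (X := X) a),
      2 * Nat.card (Subgroup.normalizer ((P : Subgroup (grp (X := X) a)) : Set (grp (X := X) a))) =
        p * (p - 1) ∧
      ∀ x : stabilizer X a, (x : X) ∈ L →
        toG a x ∈ Subgroup.normalizer ((P : Subgroup (grp (X := X) a)) : Set (grp (X := X) a)) := by
  classical
  have hp : p.Prime := Fact.out
  set G := grp (X := X) a with hG
  have hα := card_others (X := X) hΩ a
  have hGt : IsPretransitive G (SubMulAction.ofStabilizer X a) := transitive_grp L hLt a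
  let f : stabilizer X a →* G := MonoidHom.mk' (toG a) (toG_mul a)
  set M : Subgroup G := (L.subgroupOf (stabilizer X a)).map f with hM
  have hL1 : IsPretransitive L Ω := isPretransitive_of_is_two_pretransitive (h2 := hLt)
  have hMcard : 2 * Nat.card M = p * (p - 1) := by
    have h1 : Nat.card M = Nat.card (stabilizer L a) := by
      rw [hM, Subgroup.card_map_of_injective (toG_injective a)]
      exact Nat.card_congr
        { toFun := fun z => ⟨⟨(z : stabilizer X a), z.2⟩, z.1.2⟩
          invFun := fun z => ⟨⟨(z : L), z.2⟩, z.1.2⟩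
          left_inv := fun z => rfl
          right_inv := fun z => rfl }
    have h2 := Basic.card_eq_card_mul_card_stabilizer (G := L) a
    rw [Nat.card_eq_fintype_card (α := Ω), hΩ] at h2
    have h3 := two_mul_card_L L (by omega : p ≠ 2) hL
    rw [h2, mul_left_comm, mul_comm (p * (p - 1))] at h3
    rw [h1]
    exact Nat.eq_of_mul_eq_mul_left (Nat.succ_pos p) h3
  obtain ⟨t, ht⟩ : Odd p := hp.odd_of_ne_two (by omega)
  have hp1 : p - 1 = 2 * t := by omega
  have hMc : Nat.card M = p * t :=
    Nat.eq_of_mul_eq_mul_left two_pos (by rw [hMcard, hp1]; ring)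
  obtain ⟨S⟩ : Nonempty (Sylow p M) := inferInstance
  have hScard : Nat.card (S : Subgroup M) = p := by
    have := SmallGroups.Sylow.card_sylow_eq S (a := 1) (m := t) (by rw [hMc, pow_one])
      (fun h => by have := Nat.le_of_dvd (by omega) h; omega)
    rwa [pow_one] at this
  have hSn : (S : Subgroup M).Normal := by
    have hd := S.card_dvd_index
    have hidx : (S : Subgroup M).index = t := by
      have := (S : Subgroup M).card_mul_index
      rw [hScard, hMc] at this
      exact Nat.eq_of_mul_eq_mul_left hp.pos this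
    rw [hidx] at hd
    have h1 : Nat.card (Sylow p M) = 1 := by
      have hm : Nat.card (Sylow p M) % p = 1 := SmallGroups.Sylow.card_sylow_mod
      have := Nat.le_of_dvd (by omega) hd
      rwa [Nat.mod_eq_of_lt (by omega)] at hm
    have : Subsingleton (Sylow p M) := (Nat.card_eq_one_iff_unique.mp h1).1
    exact S.normal_of_subsingleton
  obtain ⟨P, hP⟩ := (S.isPGroup'.map M.subtype).exists_le_sylow
  have hPeq : (S : Subgroup M).map M.subtype = (P : Subgroup G) := Subgroup.eq_of_le_of_card_ge hP (by
    rw [Subgroup.card_map_of_injective M.subtype_injective, hScard,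
      PrimeDegreeSylow.card_sylow hα G P])
  set N := Subgroup.normalizer ((P : Subgroup G) : Set G) with hN
  have hMN : M ≤ N := by
    rw [hN, ← hPeq]
    exact (Subgroup.normalizer_eq_top (H := (S : Subgroup M)) ▸
      (Subgroup.le_normalizer_map M.subtype (H := (S : Subgroup M))) |> fun h y hy =>
        h ⟨⟨y, hy⟩, trivial, rfl⟩)
  obtain ⟨f', hf', hNf⟩ := PrimeDegreeSylow.card_normalizer hα G P
  have hdvd : t ∣ f' := by
    have := Subgroup.card_dvd_of_le hMN
    rw [hMc, hNf] at this
    exact Nat.dvd_of_mul_dvd_mul_left hp.pos this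
  rw [hp1] at hf'
  have hf : f' = t := by
    rcases eq_or_ne f' t with h | h
    · exact h
    exfalso
    obtain ⟨k, hk⟩ := hdvd
    have hk2 : k ∣ 2 := by
      rw [hk, mul_comm 2] at hf'
      exact Nat.dvd_of_mul_dvd_mul_left (by omega) hf'
    rcases (Nat.dvd_prime Nat.prime_two).mp hk2 with rfl | rfl
    · exact h (by rw [hk, mul_one])
    have : Nonempty (SubMulAction.ofStabilizer X a) :=
      Fintype.card_pos_iff.mp (hα ▸ hp.pos)
    obtain ⟨b⟩ := this
    obtain ⟨g, hgb, hg⟩ := exists_long_cycle hα G P (by rw [hNf, hk, hp1, mul_comm t]) b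
    obtain ⟨x, rfl⟩ := toG_surjective a g
    set σ : Equiv.Perm Ω := MulAction.toPerm (x : X) with hσ
    have hxa : (x : X) • a = a := x.2
    have hxb : (x : X) • (b : Ω) = (b : Ω) := congrArg Subtype.val hgb
    have hpow : ∀ (i : ℤ) (z : SubMulAction.ofStabilizer X a),
        (σ ^ i) (z : Ω) = ((toG a x ^ i • z : SubMulAction.ofStabilizer X a) : Ω) := by
      intro i z
      rw [show toG a x ^ i = toG a (x ^ i) from (map_zpow f x i).symm, coe_toG_smul,
        show σ ^ i = MulAction.toPerm ((x : X) ^ i) from (map_zpow (MulAction.toPermHom X Ω) (x : X) i).symm]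
      rfl
    have hmove : ∀ c : SubMulAction.ofStabilizer X a, c ≠ b → σ (c : Ω) ≠ c := by
      intro c hc hfix
      obtain ⟨d, hd, hdc⟩ : ∃ d : SubMulAction.ofStabilizer X a, d ≠ b ∧ d ≠ c := by
        by_contra hcon
        push Not at hcon
        have : (Finset.univ : Finset (SubMulAction.ofStabilizer X a)) ⊆ {b, c} := fun d _ => by
          simp only [Finset.mem_insert, Finset.mem_singleton]
          exact or_iff_not_imp_left.mpr (hcon d)
        have h2 := Finset.card_le_card this
        rw [Finset.card_univ, hα] at h2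
        have := Finset.card_le_two (a := b) (b := c)
        omega
      obtain ⟨i, hi⟩ := hg c d hc hd
      refine hdc (Subtype.ext ?_)
      rw [← hi, ← hpow]
      exact (Function.IsFixedPt.perm_zpow (hfix : Function.IsFixedPt σ (c : Ω)) i)
    have hsupp : σ.support = ({a, (b : Ω)} : Finset Ω)ᶜ := by
      ext z
      simp only [Equiv.Perm.mem_support, Finset.mem_compl, Finset.mem_insert, Finset.mem_singleton]
      constructor
      · rintro h (rfl | rfl)
        · exact h hxa
        · exact h hxb
      · intro h hz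
        push Not at h
        exact hmove ⟨z, h.1⟩ (fun e => h.2 (congrArg Subtype.val e)) hz
    have hab : a ≠ (b : Ω) := Ne.symm b.2
    have hcard : σ.support.card = p - 1 := by
      rw [hsupp, Finset.card_compl, Finset.card_pair hab, hΩ]
      omega
    have hcyc : σ.IsCycle := by
      obtain ⟨c, hc⟩ := Finset.card_pos.mp (show 0 < σ.support.card by omega)
      rw [hsupp, Finset.mem_compl, Finset.mem_insert, Finset.mem_singleton] at hc
      push Not at hc
      refine ⟨c, hmove ⟨c, hc.1⟩ (fun e => hc.2 (congrArg Subtype.val e)), fun d hd => ?_⟩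
      have hd' : d ≠ a ∧ d ≠ (b : Ω) :=
        ⟨fun e => hd (e ▸ hxa), fun e => hd (e ▸ hxb)⟩
      obtain ⟨i, hi⟩ := hg ⟨c, hc.1⟩ ⟨d, hd'.1⟩ (fun e => hc.2 (congrArg Subtype.val e))
        (fun e => hd'.2 (congrArg Subtype.val e))
      exact ⟨i, by rw [hpow i ⟨c, hc.1⟩, hi]⟩
    have hs := hcyc.sign
    rw [heven (x : X), hcard, hp1, pow_mul, neg_one_sq, one_pow] at hs
    exact absurd hs (by decide)
  have hN2 : 2 * Nat.card N = p * (p - 1) := by rw [hNf, hf, hp1]; ring
  refine ⟨fun hsol => ?_, P, hN2, fun x hx => hMN (Subgroup.mem_map_of_mem f (Subgroup.mem_subgroupOf.mpr hx))⟩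
  -- a soluble stabiliser would be the stabiliser in `L`
  have htop := normalizer_eq_top_of_solvable hα G P hsol
  have hGc : Nat.card G = Nat.card M := by
    rw [← Subgroup.card_top (G := G), ← htop, hNf, hf, hMc]
  have hK : Nat.card (stabilizer X a) = Nat.card G :=
    Nat.card_congr (Equiv.ofBijective _ ⟨toG_injective a, fun g => toG_surjective a g⟩)
  have hXt : IsPretransitive X Ω := ⟨fun y z => by
    obtain ⟨g, hg⟩ := exists_smul_eq L y z; exact ⟨g, hg⟩⟩
  refine hLX (Subgroup.eq_top_of_card_eq L ?_)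
  rw [Basic.card_eq_card_mul_card_stabilizer (G := X) a, hK, hGc, Nat.card_eq_fintype_card (α := Ω), hΩ]
  refine Nat.eq_of_mul_eq_mul_left two_pos ?_
  rw [two_mul_card_L L (by omega : p ≠ 2) hL, mul_left_comm, hMcard]
  ring

end Cfsg.Agent.Lib.PrimeHalfLine.Setup
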